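import Mathlib.RingTheory.Ideal.Maps
import Mathlib.Algebra.BigOperators.Fin
import Mathlib.Data.Fin.Tuple.Basic

/-!
# An elementary Koszul complex on functions `(Fin n → Bool) → M`
-/

set_option autoImplicit false

universe u v w

namespace Groth.Agent.H1SyzVan

variable {S : Type u} [CommRing S]

/-- The weight of an index. -/
def wt : ∀ {n : ℕ}, (Fin n → Bool) → ℕ
  | 0, _ => 0
  | _ + 1, s => (if s 0 then 1 else 0) + wt (Fin.tail s)

/-- The Koszul differential. -/
def D {M : Type v} [AddCommGroup M] [Module S M] :
    ∀ {n : ℕ}, (Fin n → S) → ((Fin n → Bool) → M) → (Fin n → Bool) → M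
  | 0, _, _ => 0
  | n + 1, x, m => fun s =>
      if s 0 then -(D (Fin.tail x) (fun t => m (Fin.cons true t)) (Fin.tail s))
      else D (Fin.tail x) (fun t => m (Fin.cons false t)) (Fin.tail s) + x 0 • m (Fin.cons true (Fin.tail s))

/-- Exterior multiplication by a basis vector. -/
def Ev {M : Type v} [AddCommGroup M] :
    ∀ {n : ℕ}, Fin n → ((Fin n → Bool) → M) → (Fin n → Bool) → M
  | 0, v, _ => v.elim0
  | n + 1, v, m => fun s => Fin.cases
      (if s 0 then m (Fin.cons false (Fin.tail s)) else 0)
      (fun w => if s 0 then -(Ev w (fun t => m (Fin.cons true t)) (Fin.tail s))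
        else Ev w (fun t => m (Fin.cons false t)) (Fin.tail s)) v

section

variable {M : Type v} [AddCommGroup M] [Module S M] {N : Type w} [AddCommGroup N] [Module S N]

theorem D_cons_true {n : ℕ} (x : Fin (n + 1) → S) (m : (Fin (n + 1) → Bool) → M) (t : Fin n → Bool) :
    D x m (Fin.cons true t) = -(D (Fin.tail x) (fun t => m (Fin.cons true t)) t) := by
  simp [D]

theorem D_cons_false {n : ℕ} (x : Fin (n + 1) → S) (m : (Fin (n + 1) → Bool) → M) (t : Fin n → Bool) :
    D x m (Fin.cons false t) =
      D (Fin.tail x) (fun t => m (Fin.cons false t)) t + x 0 • m (Fin.cons true t) := by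
  simp [D]

theorem ext_cons {n : ℕ} {α : Type*} {f g : (Fin (n + 1) → Bool) → α}
    (hf : ∀ t, f (Fin.cons false t) = g (Fin.cons false t)) (ht : ∀ t, f (Fin.cons true t) = g (Fin.cons true t)) :
    f = g := funext fun s => by
  rw [← Fin.cons_self_tail s]
  cases s 0
  · exact hf _
  · exact ht _

theorem D_add : ∀ {n : ℕ} (x : Fin n → S) (a b : (Fin n → Bool) → M), D x (a + b) = D x a + D x b
  | 0, _, _, _ => by simp [D]
  | n + 1, x, a, b => by
    refine ext_cons (fun t => ?_) (fun t => ?_)
    · simp only [Pi.add_apply, D_cons_false]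
      rw [show (fun t => a (Fin.cons false t) + b (Fin.cons false t)) =
        (fun t => a (Fin.cons false t)) + fun t => b (Fin.cons false t) from rfl, D_add]
      simp [add_add_add_comm]
    · simp only [Pi.add_apply, D_cons_true]
      rw [show (fun t => a (Fin.cons true t) + b (Fin.cons true t)) =
        (fun t => a (Fin.cons true t)) + fun t => b (Fin.cons true t) from rfl, D_add]
      simp [add_comm]

/-- `D` as an additive map. -/
def DHom {n : ℕ} (x : Fin n → S) : ((Fin n → Bool) → M) →+ ((Fin n → Bool) → M) :=
  AddMonoidHom.mk' (D x) (D_add x)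

theorem DHom_apply {n : ℕ} (x : Fin n → S) (m : (Fin n → Bool) → M) : DHom x m = D x m := rfl

theorem D_smul : ∀ {n : ℕ} (x : Fin n → S) (c : S) (a : (Fin n → Bool) → M), D x (c • a) = c • D x a
  | 0, _, _, _ => by simp [D]
  | n + 1, x, c, a => by
    refine ext_cons (fun t => ?_) (fun t => ?_)
    · simp only [Pi.smul_apply, D_cons_false]
      rw [show (fun t => c • a (Fin.cons false t)) = c • fun t => a (Fin.cons false t) from rfl, D_smul]
      simp [smul_comm c (x 0)]
    · simp only [Pi.smul_apply, D_cons_true]
      rw [show (fun t => c • a (Fin.cons true t)) = c • fun t => a (Fin.cons true t) from rfl, D_smul]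
      simp

theorem D_comp (f : M →ₗ[S] N) : ∀ {n : ℕ} (x : Fin n → S) (a : (Fin n → Bool) → M),
    D x (fun s => f (a s)) = fun s => f (D x a s)
  | 0, _, _ => by funext s; simp [D]
  | n + 1, x, a => by
    refine ext_cons (fun t => ?_) (fun t => ?_)
    · simp only [D_cons_false, D_comp f, map_add, map_smul]
    · simp only [D_cons_true, D_comp f, map_neg]

theorem D_D : ∀ {n : ℕ} (x : Fin n → S) (a : (Fin n → Bool) → M), D x (D x a) = 0
  | 0, _, _ => rfl
  | n + 1, x, a => by
    refine ext_cons (fun t => ?_) (fun t => ?_)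
    · rw [D_cons_false, D_cons_true]
      rw [show (fun t => D x a (Fin.cons false t)) =
        D (Fin.tail x) (fun t => a (Fin.cons false t)) + x 0 • fun t => a (Fin.cons true t) from
          funext fun t => D_cons_false x a t, D_add, D_smul, D_D]
      simp
    · rw [D_cons_true, show (fun t => D x a (Fin.cons true t)) =
        -(D (Fin.tail x) (fun t => a (Fin.cons true t))) from funext fun t => D_cons_true x a t,
        ← DHom_apply, map_neg, DHom_apply, D_D]
      simp

theorem D_Ev_add : ∀ {n : ℕ} (x : Fin n → S) (v : Fin n) (a : (Fin n → Bool) → M),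
    D x (Ev v a) + Ev v (D x a) = x v • a
  | 0, _, v, _ => v.elim0
  | n + 1, x, v, a => by
    induction v using Fin.cases with
    | zero =>
      refine ext_cons (fun t => ?_) (fun t => ?_)
      · rw [Pi.add_apply, D_cons_false]
        simp only [Ev, Fin.cases_zero, Fin.cons_zero, Fin.tail_cons, Bool.false_eq_true, if_false, if_true]
        rw [show (fun _ : Fin n → Bool => (0 : M)) = 0 from rfl, ← DHom_apply, map_zero]
        simp
      · rw [Pi.add_apply, D_cons_true]
        simp only [Ev, Fin.cases_zero, Fin.cons_zero, Fin.tail_cons, if_true]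
        rw [D_cons_false]
        simp
    | succ w =>
      have hF : (fun t => Ev (Fin.succ w) a (Fin.cons false t)) = Ev w (fun t => a (Fin.cons false t)) := by
        funext t; simp [Ev]
      have hT : (fun t => Ev (Fin.succ w) a (Fin.cons true t)) = -(Ev w (fun t => a (Fin.cons true t))) := by
        funext t; simp [Ev]
      refine ext_cons (fun t => ?_) (fun t => ?_)
      · rw [Pi.add_apply, D_cons_false, hF, congrFun hT t]
        simp only [Ev, Fin.cases_succ, Fin.cons_zero, Fin.tail_cons, Bool.false_eq_true, if_false]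
        rw [show (fun t => D x a (Fin.cons false t)) =
          D (Fin.tail x) (fun t => a (Fin.cons false t)) + x 0 • fun t => a (Fin.cons true t) from
            funext fun t => D_cons_false x a t]
        have h := congrFun (D_Ev_add (Fin.tail x) w (fun t => a (Fin.cons false t))) t
        rw [Ev_add, Ev_smul]
        simp only [Pi.add_apply, Pi.smul_apply, Pi.neg_apply, smul_neg] at h ⊢
        rw [show x w.succ • a (Fin.cons false t) = Fin.tail x w • a (Fin.cons false t) from rfl, ← h]
        abel
      · rw [Pi.add_apply, D_cons_true, hT, ← DHom_apply, map_neg, DHom_apply]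
        simp only [Ev, Fin.cases_succ, Fin.cons_zero, Fin.tail_cons, if_true]
        rw [show (fun t => D x a (Fin.cons true t)) =
          -(D (Fin.tail x) (fun t => a (Fin.cons true t))) from funext fun t => D_cons_true x a t]
        have h := congrFun (D_Ev_add (Fin.tail x) w (fun t => a (Fin.cons true t))) t
        rw [Ev_neg]
        simp only [Pi.add_apply, Pi.smul_apply, Pi.neg_apply, neg_neg] at h ⊢
        rw [show x w.succ • a (Fin.cons true t) = Fin.tail x w • a (Fin.cons true t) from rfl, ← h]
where
  Ev_add {n : ℕ} {w : Fin n} {a b : (Fin n → Bool) → M} : Ev w (a + b) = Ev w a + Ev w b := by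
    induction n with
    | zero => exact w.elim0
    | succ n ih =>
      funext s
      induction w using Fin.cases with
      | zero => simp [Ev]; split <;> simp
      | succ w =>
        simp only [Ev, Fin.cases_succ, Pi.add_apply]
        rw [show (fun t => a (Fin.cons true t) + b (Fin.cons true t)) =
          (fun t => a (Fin.cons true t)) + fun t => b (Fin.cons true t) from rfl,
          show (fun t => a (Fin.cons false t) + b (Fin.cons false t)) =
          (fun t => a (Fin.cons false t)) + fun t => b (Fin.cons false t) from rfl, ih, ih]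
        split <;> simp [add_comm]
  Ev_smul {n : ℕ} {w : Fin n} {c : S} {a : (Fin n → Bool) → M} : Ev w (c • a) = c • Ev w a := by
    induction n with
    | zero => exact w.elim0
    | succ n ih =>
      funext s
      induction w using Fin.cases with
      | zero => simp [Ev]
      | succ w =>
        simp only [Ev, Fin.cases_succ, Pi.smul_apply]
        rw [show (fun t => c • a (Fin.cons true t)) = c • fun t => a (Fin.cons true t) from rfl,
          show (fun t => c • a (Fin.cons false t)) = c • fun t => a (Fin.cons false t) from rfl, ih, ih]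
        split <;> simp
  Ev_neg {n : ℕ} {w : Fin n} {a : (Fin n → Bool) → M} : Ev w (-a) = -Ev w a := by
    rw [← neg_one_smul S a, Ev_smul, neg_one_smul]

/-- The Koszul contraction identity for cycles: multiplication by a variable gives a boundary. -/
theorem sum_smul_eq_D {n : ℕ} (x : Fin n → S) (y : Fin n → (Fin n → Bool) → M) (hy : ∀ v, D x (y v) = 0) :
    ∑ v, x v • y v = D x (∑ v, Ev v (y v)) := by
  rw [← DHom_apply, map_sum]
  refine Finset.sum_congr rfl fun v _ => ?_
  have h := D_Ev_add x v (y v)
  rw [hy v] at h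
  have h0 : Ev v (0 : (Fin n → Bool) → M) = 0 := by
    rw [← zero_smul S (0 : (Fin n → Bool) → M), D_Ev_add.Ev_smul, zero_smul, zero_smul]
  rw [h0, add_zero] at h
  exact h.symm

/-- The index zero. -/
def z0 {n : ℕ} : Fin n → Bool := fun _ => false

theorem D_z0 : ∀ {n : ℕ} (x : Fin n → S) (a : (Fin n → Bool) → S), D x a z0 ∈ Ideal.span (Set.range x)
  | 0, _, _ => by simp [D]
  | n + 1, x, a => by
    rw [show (z0 : Fin (n + 1) → Bool) = Fin.cons false z0 from (Fin.cons_self_tail (z0 : Fin (n + 1) → Bool)).symm,
      D_cons_false]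
    refine add_mem (Ideal.span_mono ?_ (D_z0 (Fin.tail x) _)) (Ideal.mul_mem_right _ _ (Ideal.subset_span ⟨0, rfl⟩))
    rintro _ ⟨i, rfl⟩
    exact ⟨i.succ, rfl⟩

theorem D_delta : ∀ {n : ℕ} (x : Fin n → S) (a : (Fin n → Bool) → M), (∀ s, s ≠ z0 → a s = 0) → D x a = 0
  | 0, _, _, _ => rfl
  | n + 1, x, a, ha => by
    have ht : (fun t => a (Fin.cons true t)) = 0 := funext fun t => ha _ fun h => by
      simpa [z0] using congrFun h 0
    refine ext_cons (fun t => ?_) (fun t => ?_)
    · rw [D_cons_false, congrFun ht t, D_delta (Fin.tail x) _ fun s hs => ha _ fun h => hs (funext fun i => by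
        simpa [z0] using congrFun h i.succ)]
      simp
    · rw [D_cons_true, ht, ← DHom_apply, map_zero]
      simp

/-- Exactness for sequences each of whose members is regular modulo the later ones. -/
theorem exists_D_eq : ∀ {n : ℕ} (x : Fin n → S)
    (_ : ∀ (i : Fin n) (b : S), x i * b ∈ Ideal.span (x '' {l | i < l}) → b ∈ Ideal.span (x '' {l | i < l}))
    (m : (Fin n → Bool) → S), D x m = 0 → m z0 ∈ Ideal.span (Set.range x) → ∃ u, D x u = m
  | 0, x, _, m, _, hz => by
    refine ⟨0, funext fun s => ?_⟩
    have hm : m z0 = 0 := by simpa [Set.range_eq_empty] using hz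
    rw [Subsingleton.elim s z0, hm]
    simp [D]
  | n + 1, x, hx, m, hm, hz => by
    classical
    have himg : ∀ i : Fin n, x '' {l | i.succ < l} = Fin.tail x '' {l | i < l} := by
      intro i
      ext y
      constructor
      · rintro ⟨l, hl, rfl⟩
        obtain ⟨l', rfl⟩ := Fin.eq_succ_of_ne_zero (Fin.ne_zero_of_lt hl)
        exact ⟨l', Fin.succ_lt_succ_iff.1 hl, rfl⟩
      · rintro ⟨l, hl, rfl⟩
        exact ⟨l.succ, Fin.succ_lt_succ_iff.2 hl, rfl⟩
    have hx' : ∀ (i : Fin n) (b : S), Fin.tail x i * b ∈ Ideal.span (Fin.tail x '' {l | i < l}) →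
        b ∈ Ideal.span (Fin.tail x '' {l | i < l}) := fun i b hb => by
      rw [← himg] at hb ⊢; exact hx i.succ b hb
    have h0 : x '' {l | (0 : Fin (n + 1)) < l} = Set.range (Fin.tail x) := by
      ext y
      constructor
      · rintro ⟨l, hl, rfl⟩
        obtain ⟨l', rfl⟩ := Fin.eq_succ_of_ne_zero (Fin.ne_zero_of_lt hl)
        exact ⟨l', rfl⟩
      · rintro ⟨l, rfl⟩
        exact ⟨l.succ, Fin.succ_pos l, rfl⟩
    set a : (Fin n → Bool) → S := fun t => m (Fin.cons false t) with ha
    set b : (Fin n → Bool) → S := fun t => m (Fin.cons true t) with hb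
    have hb0 : D (Fin.tail x) b = 0 := funext fun t => by
      have := congrFun hm (Fin.cons true t)
      rw [D_cons_true] at this
      simpa using this
    have hab : D (Fin.tail x) a + x 0 • b = 0 := funext fun t => by
      have := congrFun hm (Fin.cons false t)
      rw [D_cons_false] at this
      simpa using this
    have hbz : b z0 ∈ Ideal.span (Set.range (Fin.tail x)) := by
      rw [← h0]
      refine hx 0 _ ?_
      have h := congrFun hab z0
      rw [Pi.add_apply, Pi.smul_apply, smul_eq_mul, Pi.zero_apply, add_eq_zero_iff_neg_eq] at h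
      rw [← h, h0]
      exact neg_mem (D_z0 _ _)
    obtain ⟨c, hc⟩ := exists_D_eq (Fin.tail x) hx' b hb0 hbz
    have hz' : m (Fin.cons false z0) ∈ Ideal.span ({x 0} : Set S) ⊔ Ideal.span (Set.range (Fin.tail x)) := by
      rw [show (Fin.cons false z0 : Fin (n + 1) → Bool) = z0 from Fin.cons_self_tail (z0 : Fin (n + 1) → Bool),
        ← Ideal.span_union]
      refine Ideal.span_mono ?_ hz
      rintro _ ⟨l, rfl⟩
      induction l using Fin.cases with
      | zero => exact Or.inl rfl
      | succ l => exact Or.inr ⟨l, rfl⟩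
    obtain ⟨p, hp, q, hq, hpq⟩ := Submodule.mem_sup.1 hz'
    obtain ⟨r, rfl⟩ := Ideal.mem_span_singleton'.1 hp
    let μ : S := -(r + c z0)
    let c' : (Fin n → Bool) → S := c + fun s => if s = z0 then μ else 0
    have hc' : D (Fin.tail x) c' = b := by
      rw [D_add, hc, D_delta _ (fun s => if s = z0 then μ else 0) fun s hs => if_neg hs, add_zero]
    have hcyc : D (Fin.tail x) (a + x 0 • c') = 0 := by rw [D_add, D_smul, hc', hab]
    have hcz : (a + x 0 • c') z0 ∈ Ideal.span (Set.range (Fin.tail x)) := by
      have : (a + x 0 • c') z0 = q := by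
        simp only [Pi.add_apply, Pi.smul_apply, smul_eq_mul, c', if_true, μ, ha]
        rw [← hpq]
        ring
      rwa [this]
    obtain ⟨e, he⟩ := exists_D_eq (Fin.tail x) hx' _ hcyc hcz
    refine ⟨fun s => if s 0 then -(c' (Fin.tail s)) else e (Fin.tail s), ext_cons (fun t => ?_) (fun t => ?_)⟩
    · rw [D_cons_false]
      simp only [Fin.cons_zero, Fin.tail_cons, Bool.false_eq_true, if_false, if_true]
      rw [he]
      simp [a]
    · rw [D_cons_true]
      simp only [Fin.cons_zero, Fin.tail_cons, if_true]
      rw [show (fun t => -(c' t)) = -c' from rfl, ← DHom_apply, map_neg, DHom_apply, hc']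
      simp [b]

theorem wt_cons_true {n : ℕ} (t : Fin n → Bool) : wt (Fin.cons true t : Fin (n + 1) → Bool) = wt t + 1 := by
  simp [wt, add_comm]

theorem wt_cons_false {n : ℕ} (t : Fin n → Bool) : wt (Fin.cons false t : Fin (n + 1) → Bool) = wt t := by
  simp [wt]

theorem wt_z0 : ∀ {n : ℕ}, wt (z0 : Fin n → Bool) = 0
  | 0 => rfl
  | n + 1 => by
    rw [show (z0 : Fin (n + 1) → Bool) = Fin.cons false z0 from (Fin.cons_self_tail (z0 : Fin (n + 1) → Bool)).symm,
      wt_cons_false, wt_z0]

theorem eq_z0_of_wt : ∀ {n : ℕ} (s : Fin n → Bool), wt s = 0 → s = z0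
  | 0, s, _ => Subsingleton.elim _ _
  | n + 1, s, h => by
    rw [← Fin.cons_self_tail s] at h ⊢
    cases hs : s 0
    · rw [hs, wt_cons_false] at h
      rw [eq_z0_of_wt _ h]
      exact Fin.cons_self_tail (z0 : Fin (n + 1) → Bool)
    · rw [hs, wt_cons_true] at h
      omega

/-- The projection to bidegree `(i, d)` for a family of additive projections. -/
def proj (P : ℤ → M →+ M) {n : ℕ} (i : ℕ) (d : ℤ) (m : (Fin n → Bool) → M) : (Fin n → Bool) → M :=
  fun s => if wt s = i then P (d - i) (m s) else 0

/-- `D` commutes with the projections. -/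
theorem D_proj (P : ℤ → M →+ M) : ∀ {n : ℕ} (x : Fin n → S)
    (_ : ∀ (v : Fin n) (d : ℤ) (y : M), P d (x v • y) = x v • P (d - 1) y)
    (i : ℕ) (d : ℤ) (m : (Fin n → Bool) → M), D x (proj P (i + 1) d m) = proj P i d (D x m)
  | 0, _, _, i, d, m => by funext s; simp [D, proj]
  | n + 1, x, hx, i, d, m => by
    have hx' : ∀ (v : Fin n) (d : ℤ) (y : M), P d (Fin.tail x v • y) = Fin.tail x v • P (d - 1) y :=
      fun v => hx v.succ
    refine ext_cons (fun t => ?_) (fun t => ?_)
    · rw [D_cons_false]
      have hF : (fun t => proj P (i + 1) d m (Fin.cons false t)) =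
          proj P (i + 1) d (fun t => m (Fin.cons false t)) := funext fun t => by simp [proj, wt_cons_false]
      rw [hF, D_proj P (Fin.tail x) hx']
      simp only [proj, wt_cons_false, wt_cons_true, Nat.succ.injEq, add_left_inj, D_cons_false]
      split
      · rw [map_add, hx, Nat.cast_add, Nat.cast_one, sub_add_eq_sub_sub]
      · simp
    · rw [D_cons_true]
      rcases Nat.eq_zero_or_pos i with rfl | hi
      · have hT : ∀ s, s ≠ z0 → proj P 1 d m (Fin.cons true s) = 0 := fun s hs => by
          simp only [proj, wt_cons_true]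
          rw [if_neg fun h => hs (eq_z0_of_wt s (by omega))]
        rw [D_delta _ _ hT]
        simp [proj, wt_cons_true]
      · obtain ⟨i, rfl⟩ : ∃ k, i = k + 1 := ⟨i - 1, by omega⟩
        have hT : (fun t => proj P (i + 1 + 1) d m (Fin.cons true t)) =
            proj P (i + 1) (d - 1) (fun t => m (Fin.cons true t)) := funext fun t => by
          simp only [proj, wt_cons_true, add_left_inj]
          congr 2
          push_cast
          ring_nf
        rw [hT, D_proj P (Fin.tail x) hx']
        simp only [proj, wt_cons_true, add_left_inj, D_cons_true]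
        split
        · rw [map_neg]
          congr 2
          push_cast
          ring_nf
        · simp

end

end Groth.Agent.H1SyzVan

namespace Groth.Agent.H1SyzVan

theorem Ev_mem {R : Type u} [CommRing R] {M : Type v} [AddCommGroup M] [Module R M] (T : Submodule R M) :
    ∀ {n : ℕ} (w : Fin n) (a : (Fin n → Bool) → M), (∀ s, a s ∈ T) → ∀ s, Ev w a s ∈ T
  | 0, w, _, _, _ => w.elim0
  | n + 1, w, a, ha, s => by
    induction w using Fin.cases with
    | zero =>
      simp only [Ev, Fin.cases_zero]
      split
      · exact ha _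
      · exact zero_mem _
    | succ w =>
      simp only [Ev, Fin.cases_succ]
      split
      · exact neg_mem (Ev_mem T w _ (fun t => ha _) _)
      · exact Ev_mem T w _ (fun t => ha _) _

theorem D_mem {R : Type u} [CommRing R] {M : Type v} [AddCommGroup M] [Module R M] (T : Submodule R M)
    {n : ℕ} (x : Fin n → R) (a : (Fin n → Bool) → M) (ha : ∀ s, a s ∈ T) (s : Fin n → Bool) : D x a s ∈ T := by
  have h := D_comp T.subtype x (fun t => (⟨a t, ha t⟩ : T))
  have h' : D x a = fun t => T.subtype (D x (fun t => (⟨a t, ha t⟩ : T)) t) := h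
  rw [h']
  exact (D x (fun t => (⟨a t, ha t⟩ : T)) s).2

end Groth.Agent.H1SyzVan
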