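import Groth.Agent.H1SyzVan.Koszul
import Groth.Agent.GrLib8.Basic
import Groth.Prelude.Def_GrSyz

/-!
# Vanishing of Betti numbers from generation degrees of iterated linear syzygies
-/

set_option autoImplicit false

universe u

open MvPolynomial

namespace Groth.Agent.H1SyzVan

variable {k : Type u} [Field k] {n : ℕ}

local notation "S" => MvPolynomial (Fin n) k
local notation "𝒮" => GrSyz.stdGr k (Fin n)

theorem X_mem (v : Fin n) : (X v : S) ∈ 𝒮 1 :=
  (GrSyz.mem_stdGr_iff k (Fin n) 1 _).2 (isWeightedHomogeneous_X k _ v)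

theorem C_mem (c : k) : (C c : S) ∈ 𝒮 0 :=
  (GrSyz.mem_stdGr_iff k (Fin n) 0 _).2 (isWeightedHomogeneous_C _ c)

theorem regular_X (i : Fin n) (b : S) (h : X i * b ∈ Ideal.span ((X : Fin n → S) '' {l | i < l})) :
    b ∈ Ideal.span ((X : Fin n → S) '' {l | i < l}) := by
  classical
  rw [mem_ideal_span_X_image] at h ⊢
  intro d hd
  obtain ⟨l, hl, hne⟩ := h (Finsupp.single i 1 + d) (by
    rw [mem_support_iff, coeff_X_mul]
    exact mem_support_iff.1 hd)
  refine ⟨l, hl, fun h0 => hne ?_⟩
  rw [Finsupp.add_apply, h0, add_zero, Finsupp.single_eq_of_ne (ne_of_gt hl)]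

theorem irrel_le : (GrSyz.irrel 𝒮).toIdeal ≤ Ideal.span (Set.range (X : Fin n → S)) := by
  refine Ideal.span_le.2 ?_
  rintro f ⟨m, hm, hf⟩
  rw [SetLike.mem_coe, ← Set.image_univ, mem_ideal_span_X_image]
  intro d hd
  by_contra hc
  have hd0 : d = 0 := Finsupp.ext fun i => by
    by_contra hi
    exact hc ⟨i, Set.mem_univ _, hi⟩
  have := (GrSyz.mem_stdGr_iff k (Fin n) m f).1 hf (mem_support_iff.1 hd)
  rw [hd0, map_zero] at this
  omega

theorem one_notMem_span : (1 : S) ∉ Ideal.span (Set.range (X : Fin n → S)) := by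
  classical
  rw [← Set.image_univ, mem_ideal_span_X_image]
  intro h
  obtain ⟨i, -, hi⟩ := h 0 (by rw [mem_support_iff]; simp)
  exact hi rfl

section Tensors

variable {R : Type u} [AddCommGroup R] [Module (MvPolynomial (Fin n) k) R]

/-- Iterated linear syzygies. -/
def T (q : ℕ) : Submodule S ((Fin q → Fin n) → R) where
  carrier := {m | ∀ (s : Fin q) (c : Fin q → Fin n), ∑ v : Fin n, (X v : S) • m (Function.update c s v) = 0}
  add_mem' ha hb s c := by simp [smul_add, Finset.sum_add_distrib, ha s c, hb s c]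
  zero_mem' s c := by simp
  smul_mem' a m hm s c := by
    simp only [Pi.smul_apply, smul_comm _ a, ← Finset.smul_sum, hm s c, smul_zero]

theorem mem_T {q : ℕ} (m : (Fin q → Fin n) → R) : m ∈ T (k := k) q ↔
    ∀ (s : Fin q) (c : Fin q → Fin n), ∑ v : Fin n, (X v : S) • m (Function.update c s v) = 0 := Iff.rfl

variable [Module k R] (ℛ : ℤ → Submodule k R) [DirectSum.Decomposition ℛ] [SetLike.GradedSMul (GrSyz.stdGr k (Fin n)) ℛ]

/-- The component of degree `d`. -/
noncomputable def comp (d : ℤ) : R →+ R :=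
  AddMonoidHom.mk' (fun y => (DirectSum.decompose ℛ y d : R)) fun a b => by
    rw [DirectSum.decompose_add, DirectSum.add_apply, AddMemClass.coe_add]

theorem comp_smul {a : S} {i : ℤ} (ha : a ∈ 𝒮 i) (d : ℤ) (y : R) :
    comp ℛ d (a • y) = a • comp ℛ (d - i) y :=
  GrLib8.decompose_smul_of_mem_left 𝒮 ℛ ha y d

theorem comp_of_mem {d : ℤ} {y : R} (hy : y ∈ ℛ d) : comp ℛ d y = y := DirectSum.decompose_of_mem_same ℛ hy

theorem comp_comp (d : ℤ) (y : R) : comp ℛ d (comp ℛ d y) = comp ℛ d y := comp_of_mem ℛ (SetLike.coe_mem _)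

theorem comp_of_mem_ne {d e : ℤ} {y : R} (hy : y ∈ ℛ e) (h : e ≠ d) : comp ℛ d y = 0 :=
  DirectSum.decompose_of_mem_ne ℛ hy h

/-- The component of degree `d` of a tuple. -/
noncomputable def Pw (q : ℕ) (d : ℤ) : ((Fin q → Fin n) → R) →+ ((Fin q → Fin n) → R) :=
  AddMonoidHom.mk' (fun m c => comp ℛ (d - q) (m c)) fun a b => funext fun c => by simp

theorem Pw_apply (q : ℕ) (d : ℤ) (m : (Fin q → Fin n) → R) (c : Fin q → Fin n) :
    Pw ℛ q d m c = comp ℛ (d - q) (m c) := rfl

theorem Pw_smul {a : S} {i : ℤ} (ha : a ∈ 𝒮 i) (q : ℕ) (d : ℤ) (m : (Fin q → Fin n) → R) :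
    Pw ℛ q d (a • m) = a • Pw ℛ q (d - i) m := funext fun c => by
  rw [Pw_apply, Pi.smul_apply, Pi.smul_apply, Pw_apply, comp_smul ℛ ha, sub_right_comm]

theorem Pw_Pw (q : ℕ) (d : ℤ) (m : (Fin q → Fin n) → R) : Pw ℛ q d (Pw ℛ q d m) = Pw ℛ q d m :=
  funext fun c => comp_comp ℛ _ _

theorem Pw_mem (q : ℕ) (d : ℤ) {m : (Fin q → Fin n) → R} (hm : m ∈ T (k := k) q) :
    Pw ℛ q d m ∈ T (k := k) q := fun s c => by
  have h : ∀ v : Fin n, (X v : S) • Pw ℛ q d m (Function.update c s v) =
      comp ℛ (d + 1 - q) ((X v : S) • m (Function.update c s v)) := fun v => by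
    rw [comp_smul ℛ (X_mem v), Pw_apply, show d + 1 - (q : ℤ) - 1 = d - q by ring]
  simp only [h, ← map_sum, hm s c, map_zero]

/-- The generation hypothesis in one tensor degree: high degree components lie in the image of the variables. -/
theorem exists_sum_of_generated (q : ℕ) (d₀ : ℤ) {y : (Fin q → Fin n) → R}
    (hy : y ∈ Submodule.span S {m' : (Fin q → Fin n) → R |
      m' ∈ T (k := k) q ∧ ∃ e : ℤ, e ≤ d₀ ∧ ∀ c, m' c ∈ ℛ (e - (q : ℤ))}) :
    y ∈ T (k := k) q ∧ ∀ d, d₀ < d → ∃ w : Fin n → (Fin q → Fin n) → R,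
      (∀ v, w v ∈ T (k := k) q ∧ Pw ℛ q (d - 1) (w v) = w v) ∧ ∑ v, (X v : S) • w v = Pw ℛ q d y := by
  classical
  induction hy using Submodule.span_induction with
  | mem y hy =>
    obtain ⟨hy, e, he, hdeg⟩ := hy
    refine ⟨hy, fun d hd => ⟨0, fun v => ⟨zero_mem _, map_zero _⟩, ?_⟩⟩
    rw [show Pw ℛ q d y = 0 from funext fun c => comp_of_mem_ne ℛ (hdeg c) (by omega)]
    simp
  | zero => exact ⟨zero_mem _, fun d _ => ⟨0, fun v => ⟨zero_mem _, map_zero _⟩, by simp⟩⟩
  | add a b _ _ ha hb =>
    refine ⟨add_mem ha.1 hb.1, fun d hd => ?_⟩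
    obtain ⟨w, hw, hw'⟩ := ha.2 d hd
    obtain ⟨w₂, hw₂, hw₂'⟩ := hb.2 d hd
    exact ⟨w + w₂, fun v => ⟨add_mem (hw v).1 (hw₂ v).1, by rw [Pi.add_apply, map_add, (hw v).2, (hw₂ v).2]⟩,
      by simp only [Pi.add_apply, smul_add, Finset.sum_add_distrib, hw', hw₂', map_add]⟩
  | smul a y _ hy =>
    induction a using MvPolynomial.induction_on with
    | C c =>
      refine ⟨Submodule.smul_mem _ _ hy.1, fun d hd => ?_⟩
      obtain ⟨w, hw, hw'⟩ := hy.2 d hd
      refine ⟨fun v => (C c : S) • w v, fun v => ⟨Submodule.smul_mem _ _ (hw v).1, ?_⟩, ?_⟩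
      · rw [Pw_smul ℛ (C_mem c), sub_zero, (hw v).2]
      · rw [Pw_smul ℛ (C_mem c), sub_zero, ← hw', Finset.smul_sum]
        exact Finset.sum_congr rfl fun v _ => smul_comm _ _ _
    | add a b ha hb =>
      rw [add_smul]
      refine ⟨add_mem ha.1 hb.1, fun d hd => ?_⟩
      obtain ⟨w, hw, hw'⟩ := ha.2 d hd
      obtain ⟨w₂, hw₂, hw₂'⟩ := hb.2 d hd
      exact ⟨w + w₂, fun v => ⟨add_mem (hw v).1 (hw₂ v).1, by rw [Pi.add_apply, map_add, (hw v).2, (hw₂ v).2]⟩,
        by simp only [Pi.add_apply, smul_add, Finset.sum_add_distrib, hw', hw₂', map_add]⟩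
    | mul_X a v ha =>
      rw [show (a * X v) • y = (X v : S) • a • y by rw [smul_smul, mul_comm]]
      refine ⟨Submodule.smul_mem _ _ ha.1, fun d _ => ?_⟩
      refine ⟨Pi.single v (Pw ℛ q (d - 1) (a • y)), fun w => ?_, ?_⟩
      · rcases eq_or_ne w v with rfl | hne
        · rw [Pi.single_eq_same]
          exact ⟨Pw_mem ℛ q _ ha.1, Pw_Pw ℛ q _ _⟩
        · rw [Pi.single_eq_of_ne hne]
          exact ⟨zero_mem _, map_zero _⟩
      · rw [Pw_smul ℛ (X_mem v), Finset.sum_eq_single v (fun b _ hb => by rw [Pi.single_eq_of_ne hb, smul_zero])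
          (fun h => absurd (Finset.mem_univ v) h), Pi.single_eq_same]

/-- The Koszul homology of the iterated syzygy modules vanishes in degree `j`. -/
theorem exists_D_eq_of_generated (hn : 0 < n) (P : ℕ) (j : ℤ)
    (hgen : ∀ i : ℕ, i ≤ P → ∀ m : (Fin i → Fin n) → R, m ∈ T (k := k) i →
      m ∈ Submodule.span S {m' : (Fin i → Fin n) → R |
        m' ∈ T (k := k) i ∧ ∃ e : ℤ, e ≤ j - (P : ℤ) + (i : ℤ) - 1 ∧ ∀ c, m' c ∈ ℛ (e - (i : ℤ))}) :
    ∀ (p q : ℕ), q + p = P → ∀ m : (Fin n → Bool) → (Fin q → Fin n) → R, (∀ s, m s ∈ T (k := k) q) →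
      D (X : Fin n → S) m = 0 → proj (Pw ℛ q) p j m = m →
      ∃ u, (∀ s, u s ∈ T (k := k) q) ∧ D (X : Fin n → S) u = m := by
  classical
  intro p
  induction p with
  | zero =>
    intro q hq m hmT _ hproj
    have hz : ∀ s, ∃ w : Fin n → (Fin q → Fin n) → R,
        (∀ v, w v ∈ T (k := k) q ∧ (s ≠ z0 → w v = 0)) ∧ ∑ v, (X v : S) • w v = m s := by
      intro s
      rcases eq_or_ne s z0 with rfl | hs
      · obtain ⟨-, h⟩ := exists_sum_of_generated ℛ q (j - (P : ℤ) + q - 1) (hgen q (by omega) (m z0) (hmT _))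
        obtain ⟨w, hw, hw'⟩ := h j (by omega)
        refine ⟨w, fun v => ⟨(hw v).1, fun h => absurd rfl h⟩, hw'.trans ?_⟩
        conv_rhs => rw [← hproj]
        simp [proj, wt_z0]
      · refine ⟨0, fun v => ⟨zero_mem _, fun _ => rfl⟩, ?_⟩
        rw [← hproj]
        simp only [proj, if_neg (fun h => hs (eq_z0_of_wt s h))]
        simp
    choose w hw hw' using hz
    refine ⟨∑ v, Ev v (fun s => w s v), fun s => ?_, ?_⟩
    · rw [Finset.sum_apply]
      exact sum_mem fun v _ => Ev_mem _ _ _ (fun t => (hw t v).1) s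
    · rw [← sum_smul_eq_D (X : Fin n → S) _ fun v => D_delta _ _ fun s hs => (hw s v).2 hs]
      funext s
      rw [Finset.sum_apply]
      exact hw' s
  | succ p ih =>
    intro q hq m hmT hDm hproj
    have hz : ∀ s, ∃ w : Fin n → (Fin q → Fin n) → R, (∀ v, w v ∈ T (k := k) q ∧
        (if wt s = p + 1 then Pw ℛ q (j - 1 - (p + 1 : ℕ)) (w v) else 0) = w v) ∧ ∑ v, (X v : S) • w v = m s := by
      intro s
      by_cases hs : wt s = p + 1
      · obtain ⟨-, h⟩ := exists_sum_of_generated ℛ q (j - (P : ℤ) + q - 1) (hgen q (by omega) (m s) (hmT _))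
        obtain ⟨w, hw, hw'⟩ := h (j - (p + 1 : ℕ)) (by omega)
        refine ⟨w, fun v => ⟨(hw v).1, ?_⟩, hw'.trans ?_⟩
        · rw [if_pos hs, sub_right_comm]
          exact (hw v).2
        · conv_rhs => rw [← hproj]
          simp only [proj, if_pos hs]
      · refine ⟨0, fun v => ⟨zero_mem _, by simp⟩, ?_⟩
        rw [← hproj]
        simp [proj, hs]
    choose w hw hw' using hz
    let W : Fin n → (Fin n → Bool) → (Fin q → Fin n) → R := fun v s => w s v
    have hWsum : ∑ v, (X v : S) • W v = m := funext fun s => by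
      rw [Finset.sum_apply]; exact hw' s
    have hWproj : ∀ v, proj (Pw ℛ q) (p + 1) (j - 1) (W v) = W v := fun v => funext fun s => (hw s v).2
    have hDW : ∀ v, proj (Pw ℛ q) p (j - 1) (D (X : Fin n → S) (W v)) = D (X : Fin n → S) (W v) := fun v => by
      rw [← D_proj (Pw ℛ q) (X : Fin n → S) (fun v d y => Pw_smul ℛ (X_mem v) q d y), hWproj]
    let φ : (Fin n → (Fin q → Fin n) → R) →ₗ[S] ((Fin (q + 1) → Fin n) → R) :=
      { toFun := fun y c => y (c 0) (Fin.tail c), map_add' := fun _ _ => rfl, map_smul' := fun _ _ => rfl }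
    let H : (Fin n → Bool) → Fin n → (Fin q → Fin n) → R := fun s v => D (X : Fin n → S) (W v) s
    let G : (Fin n → Bool) → (Fin (q + 1) → Fin n) → R := fun s => φ (H s)
    have hDH : D (X : Fin n → S) H = 0 := funext fun s => funext fun v => by
      have h1 := congrFun (D_comp (LinearMap.proj v : (Fin n → (Fin q → Fin n) → R) →ₗ[S] _) (X : Fin n → S) H) s
      have h2 : (fun s => (LinearMap.proj v : (Fin n → (Fin q → Fin n) → R) →ₗ[S] _) (H s)) = D (X : Fin n → S) (W v) := rfl
      rw [h2, D_D] at h1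
      exact h1.symm
    have hDG : D (X : Fin n → S) G = 0 := by
      rw [show G = fun s => φ (H s) from rfl, D_comp φ, hDH]
      funext s
      simp
    have hGT : ∀ s, G s ∈ T (k := k) (q + 1) := by
      intro s i c
      induction i using Fin.cases with
      | zero =>
        have h0 : ∑ v, (X v : S) • D (X : Fin n → S) (W v) = 0 := by
          rw [Finset.sum_congr rfl fun v _ => (D_smul (X : Fin n → S) (X v : S) (W v)).symm]
          simp only [← DHom_apply]
          rw [← map_sum, hWsum, DHom_apply, hDm]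
        have h1 := congrFun (congrFun h0 s) (Fin.tail c)
        simp only [Finset.sum_apply, Pi.smul_apply, Pi.zero_apply] at h1
        simpa [G, φ, H, Fin.tail_update_zero] using h1
      | succ i =>
        have h1 := D_mem (T (k := k) q) (X : Fin n → S) (W (c 0)) (fun t => (hw t (c 0)).1) s i (Fin.tail c)
        have he : ∀ v, (Function.update c i.succ v) 0 = c 0 := fun v =>
          Function.update_of_ne (Fin.succ_ne_zero i).symm _ _
        simpa [G, φ, H, Fin.tail_update_succ, he] using h1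
    have hGproj : proj (Pw ℛ (q + 1)) p j G = G := funext fun s => by
      by_cases hs : wt s = p
      · simp only [proj, if_pos hs]
        funext c
        have h1 := congrFun (congrFun (hDW (c 0)) s) (Fin.tail c)
        simp only [proj, if_pos hs, Pw_apply] at h1
        rw [Pw_apply]
        show comp ℛ _ (D (X : Fin n → S) (W (c 0)) s (Fin.tail c)) = D (X : Fin n → S) (W (c 0)) s (Fin.tail c)
        rw [show j - (p : ℤ) - ((q + 1 : ℕ) : ℤ) = j - 1 - p - q by push_cast; ring]
        exact h1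
      · simp only [proj, if_neg hs]
        funext c
        have h1 := congrFun (hDW (c 0)) s
        simp only [proj, if_neg hs] at h1
        show (0 : R) = D (X : Fin n → S) (W (c 0)) s (Fin.tail c)
        rw [← h1]
        rfl
    obtain ⟨u, huT, hu⟩ := ih (q + 1) (by omega) G hGT hDG hGproj
    let ψ : Fin n → ((Fin (q + 1) → Fin n) → R) →ₗ[S] ((Fin q → Fin n) → R) := fun v =>
      { toFun := fun y c => y (Fin.cons v c), map_add' := fun _ _ => rfl, map_smul' := fun _ _ => rfl }
    have hψu : ∀ v, D (X : Fin n → S) (fun s => ψ v (u s)) = D (X : Fin n → S) (W v) := fun v => by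
      rw [D_comp (ψ v), hu]
      funext s c
      simp [ψ, G, φ, H]
    have huT' : ∀ v s, ψ v (u s) ∈ T (k := k) q := fun v s i c => by
      have h1 := huT s i.succ (Fin.cons v c)
      simpa [ψ, Fin.cons_update] using h1
    have husum : ∑ v, (X v : S) • (fun s => ψ v (u s)) = 0 := funext fun s => funext fun c => by
      have h1 := huT s 0 (Fin.cons ⟨0, hn⟩ c)
      simpa [ψ, Fin.update_cons_zero] using h1
    let y : Fin n → (Fin n → Bool) → (Fin q → Fin n) → R := fun v => W v - fun s => ψ v (u s)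
    have hy : ∀ v, D (X : Fin n → S) (y v) = 0 := fun v => by
      rw [← DHom_apply, map_sub, DHom_apply, DHom_apply, hψu, sub_self]
    refine ⟨∑ v, Ev v (y v), fun s => ?_, ?_⟩
    · rw [Finset.sum_apply]
      exact sum_mem fun v _ => Ev_mem _ _ _ (fun t => sub_mem (hw t v).1 (huT' v t)) s
    · rw [← sum_smul_eq_D (X : Fin n → S) y hy]
      simp only [y, smul_sub, Finset.sum_sub_distrib, hWsum, husum, sub_zero]

end Tensors

section Resolution

variable {R : Type u} [AddCommGroup R] [Module k R] [Module (MvPolynomial (Fin n) k) R]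
  {ℛ : ℤ → Submodule k R} [DirectSum.Decomposition ℛ] [SetLike.GradedSMul (GrSyz.stdGr k (Fin n)) ℛ]

/-- The component of degree `d` in a term of a resolution. -/
noncomputable def PF (F : GrSyz.FreeRes (GrSyz.stdGr k (Fin n)) ℛ) (l : ℕ) (d : ℤ) :
    (Fin (F.rk l) → S) →+ (Fin (F.rk l) → S) :=
  AddMonoidHom.mk' (fun f a => comp 𝒮 (d - F.deg l a) (f a)) fun a b => funext fun c => by simp

variable (F : GrSyz.FreeRes (GrSyz.stdGr k (Fin n)) ℛ)

theorem PF_smul (v : Fin n) (l : ℕ) (d : ℤ) (f : Fin (F.rk l) → S) :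
    PF F l d ((X v : S) • f) = (X v : S) • PF F l (d - 1) f := funext fun a => by
  show comp 𝒮 (d - F.deg l a) ((X v : S) • f a) = (X v : S) • comp 𝒮 (d - 1 - F.deg l a) (f a)
  rw [comp_smul 𝒮 (X_mem v), sub_right_comm]

theorem PF_dLin (l : ℕ) (d : ℤ) (f : Fin (F.rk (l + 1)) → S) (hf : PF F (l + 1) d f = f) :
    PF F l d (F.dLin l f) = F.dLin l f := funext fun a => by
  refine comp_of_mem 𝒮 ?_
  show (F.d l).mulVec f a ∈ _
  rw [Matrix.mulVec, dotProduct]
  refine Submodule.sum_mem _ fun b _ => ?_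
  have hb : f b ∈ 𝒮 (d - F.deg (l + 1) b) := by
    rw [← congrFun hf b]; exact SetLike.coe_mem _
  have := SetLike.mul_mem_graded (F.d_mem l a b) hb
  rwa [show F.deg (l + 1) b - F.deg l a + (d - F.deg (l + 1) b) = d - F.deg l a by ring] at this

theorem aug_mem (d : ℤ) (f : Fin (F.rk 0) → S) (hf : PF F 0 d f = f) : F.augLin f ∈ ℛ d := by
  rw [Fintype.linearCombination_apply]
  refine Submodule.sum_mem _ fun b _ => ?_
  have hb : f b ∈ 𝒮 (d - F.deg 0 b) := by
    rw [← congrFun hf b]; exact SetLike.coe_mem _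
  have := SetLike.GradedSMul.smul_mem (A := 𝒮) (B := ℛ) hb (F.aug_mem b)
  simpa using this

theorem aug_dLin (f : Fin (F.rk 1) → S) : F.augLin (F.dLin 0 f) = 0 := by
  rw [← LinearMap.mem_ker, F.exact_zero]
  exact ⟨f, rfl⟩

theorem dLin_dLin (l : ℕ) (f : Fin (F.rk (l + 2)) → S) : F.dLin l (F.dLin (l + 1) f) = 0 := by
  rw [← LinearMap.mem_ker, F.exact_succ]
  exact ⟨f, rfl⟩

theorem betti_eq_zero (hn : 0 < n) (P : ℕ) (j : ℤ)
    (hgen : ∀ i : ℕ, i ≤ P → ∀ m : (Fin i → Fin n) → R, m ∈ T (k := k) i →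
      m ∈ Submodule.span S {m' : (Fin i → Fin n) → R |
        m' ∈ T (k := k) i ∧ ∃ e : ℤ, e ≤ j - (P : ℤ) + (i : ℤ) - 1 ∧ ∀ c, m' c ∈ ℛ (e - (i : ℤ))})
    (hF : F.IsMinimal (GrSyz.irrel 𝒮).toIdeal) : F.betti P j = 0 := by
  classical
  let x : Fin n → S := X
  -- the down map at each stage
  have key : ∀ (l i : ℕ), i + l = P → ∀ c : (Fin n → Bool) → Fin (F.rk l) → S, proj (PF F l) i j c = c →
      (l = 0 → True) →
      (∀ l' (e : l = l' + 1), D x (fun s => F.dLin l' (e ▸ c s)) = 0 ∧
        ∀ a, F.dLin l' (e ▸ c z0) a ∈ Ideal.span (Set.range x)) →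
      (l = 0 → ∀ (e : l = 0), D x (fun s => F.augLin (e ▸ c s)) = 0) →
      ∃ (u : (Fin n → Bool) → Fin (F.rk l) → S) (t : (Fin n → Bool) → Fin (F.rk (l + 1)) → S),
        c = D x u + fun s => F.dLin l (t s) := by
    intro l
    induction l with
    | zero =>
      intro i hi c hc _ _ haug
      have haug' : D x (fun s => F.augLin (c s)) = 0 := haug rfl rfl
      let ι : R →ₗ[S] ((Fin 0 → Fin n) → R) := LinearMap.pi fun _ => LinearMap.id
      have hz := exists_D_eq_of_generated ℛ hn P j hgen P 0 (by omega) (fun s => ι (F.augLin (c s)))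
        (fun s i => i.elim0) (by
          rw [D_comp ι, haug']
          funext s
          simp) (by
          obtain rfl : i = P := by omega
          funext s
          by_cases hs : wt s = i
          · simp only [proj, if_pos hs]
            funext e
            refine comp_of_mem ℛ ?_
            show F.augLin (c s) ∈ _
            rw [show j - (i : ℤ) - ((0 : ℕ) : ℤ) = j - i by simp]
            refine aug_mem F _ _ ?_
            have := congrFun hc s
            simpa [proj, hs] using this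
          · have := congrFun hc s
            simp only [proj, if_neg hs] at this ⊢
            simp [← this])
      obtain ⟨u, -, hu⟩ := hz
      choose u' hu' using fun s => F.aug_surjective (u s Fin.elim0)
      have hDu : (fun s => F.augLin (D x u' s)) = fun s => F.augLin (c s) := by
        rw [← D_comp F.augLin x u']
        have h1 : (fun s => F.augLin (u' s)) = fun s => u s Fin.elim0 := funext hu'
        rw [h1, show (fun s => u s Fin.elim0) =
          fun s => (LinearMap.proj Fin.elim0 : ((Fin 0 → Fin n) → R) →ₗ[S] R) (u s) from rfl, D_comp, hu]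
        rfl
      have hker : ∀ s, ∃ t, F.dLin 0 t = c s - D x u' s := fun s => by
        have h1 : c s - D x u' s ∈ LinearMap.ker F.augLin := by
          rw [LinearMap.mem_ker, map_sub, congrFun hDu s, sub_self]
        rw [F.exact_zero] at h1
        exact h1
      choose t ht using hker
      exact ⟨u', t, funext fun s => by simp [ht]⟩
    | succ l ih =>
      intro i hi c hc _ hdown _
      obtain ⟨hcyc, hz0⟩ := hdown l rfl
      simp only at hcyc hz0
      have hpre : ∀ a, ∃ u, D x u = fun s => F.dLin l (c s) a := fun a => by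
        refine exists_D_eq x regular_X _ ?_ (hz0 a)
        rw [show (fun s => F.dLin l (c s) a) =
          fun s => (LinearMap.proj a : (Fin (F.rk l) → S) →ₗ[S] S) (F.dLin l (c s)) from rfl, D_comp, hcyc]
        funext s
        simp
      choose U hU using hpre
      let c'' : (Fin n → Bool) → Fin (F.rk l) → S := fun s a => U a s
      have hc'' : D x c'' = fun s => F.dLin l (c s) := funext fun s => funext fun a => by
        have h1 := congrFun (D_comp (LinearMap.proj a : (Fin (F.rk l) → S) →ₗ[S] S) x c'') s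
        exact h1.symm.trans (congrFun (hU a) s)
      let c' := proj (PF F l) (i + 1) j c''
      have hdF : proj (PF F l) i j (fun s => F.dLin l (c s)) = fun s => F.dLin l (c s) := funext fun s => by
        by_cases hs : wt s = i
        · simp only [proj, if_pos hs]
          refine PF_dLin F l _ _ ?_
          have := congrFun hc s
          simpa [proj, hs] using this
        · have := congrFun hc s
          simp only [proj, if_neg hs] at this ⊢
          simp [← this]
      have hc' : D x c' = fun s => F.dLin l (c s) := by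
        rw [D_proj (PF F l) x (fun v d y => PF_smul F v l d y), hc'', hdF]
      have hproj' : proj (PF F l) (i + 1) j c' = c' := funext fun s => by
        simp only [c', proj]
        split
        · funext a; exact comp_comp 𝒮 _ _
        · rfl
      obtain ⟨u, t, hut⟩ := ih (i + 1) (by omega) c' hproj' (fun _ => trivial) (fun l' e => by
        subst e
        refine ⟨?_, fun a => ?_⟩
        · rw [D_comp (F.dLin l'), hc']
          funext s
          exact dLin_dLin F l' (c s)
        · have h0 : c' z0 = 0 := by simp [c', proj, wt_z0]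
          simp [h0]) (fun _ e => by
        subst e
        rw [D_comp F.augLin, hc']
        funext s
        exact aug_dLin F (c s))
      have hker : ∀ s, ∃ t', F.dLin (l + 1) t' = c s - D x t s := fun s => by
        have h1 : c s - D x t s ∈ LinearMap.ker (F.dLin l) := by
          have h2 : D x c' = D x (fun s => F.dLin l (t s)) := by
            rw [hut, D_add, D_D, zero_add]
          rw [LinearMap.mem_ker, map_sub, ← congrFun hc' s, h2, congrFun (D_comp (F.dLin l) x t) s, sub_self]
        rw [F.exact_succ] at h1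
        exact h1
      choose t' ht' using hker
      exact ⟨t, t', funext fun s => by simp [ht']⟩
  rw [GrSyz.FreeRes.betti, Finset.card_eq_zero, Finset.filter_eq_empty_iff]
  intro b _ hb
  let c : (Fin n → Bool) → Fin (F.rk P) → S := fun s => if s = z0 then Pi.single b 1 else 0
  have hc : proj (PF F P) 0 j c = c := funext fun s => by
    by_cases hs : s = z0
    · subst hs
      simp only [proj, c, wt_z0, if_true]
      funext a
      refine comp_of_mem 𝒮 ?_
      rcases eq_or_ne a b with rfl | hne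
      · rw [Pi.single_eq_same, hb, Nat.cast_zero, sub_zero, sub_self]
        exact SetLike.one_mem_graded _
      · rw [Pi.single_eq_of_ne hne]
        exact zero_mem _
    · simp only [proj, c, if_neg hs, if_neg (fun h => hs (eq_z0_of_wt s h))]
  obtain ⟨u, t, hut⟩ := key P 0 (zero_add _) c hc (fun _ => trivial) (fun l' e => by
    subst e
    refine ⟨D_delta _ _ fun s hs => by simp [c, hs], fun a => ?_⟩
    simp only [c, if_true]
    refine irrel_le ?_
    show (F.d l').mulVec (Pi.single b 1) a ∈ _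
    rw [Matrix.mulVec_single_one]
    exact hF l' a b) (fun h e => by
    subst h
    exact D_delta _ _ fun s hs => by simp [c, hs])
  have h1 := congrFun (congrFun hut z0) b
  simp only [c, if_true, Pi.single_eq_same, Pi.add_apply] at h1
  refine one_notMem_span (k := k) (n := n) ?_
  rw [h1]
  refine add_mem ?_ ?_
  · have h2 := congrFun (D_comp (LinearMap.proj b : (Fin (F.rk P) → S) →ₗ[S] S) x u) z0
    rw [show D x u z0 b = _ from h2.symm]
    exact D_z0 _ _
  · show (F.d P).mulVec (t z0) b ∈ _
    rw [Matrix.mulVec, dotProduct]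
    exact Ideal.sum_mem _ fun a _ => Ideal.mul_mem_right _ _ (irrel_le (hF P b a))

end Resolution

end Groth.Agent.H1SyzVan
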